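import Groth.Agent.H1TorFlip.Flip
import Mathlib.RingTheory.Flat.Tensor
import Mathlib.LinearAlgebra.TensorProduct.Finiteness
import Mathlib.LinearAlgebra.DirectSum.Finsupp

/-!
# Vanishing of Tor, elementwise, through exactness of a tensored free resolution
-/

set_option autoImplicit false
universe u

open CategoryTheory Limits TensorProduct

namespace Groth.Agent.H1TorFlip

variable {R : Type u} [CommRing R] (M : Md R)

/-- The terms of the resolution of `M`, as types. -/
abbrev Pn (n : ℕ) : Type u := ((rX R n).obj M : Md R)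

instance flat_Pn (n : ℕ) : Module.Flat R (Pn M n) := flat_Fo R _

/-- The differentials, as linear maps. -/
noncomputable abbrev dn (n : ℕ) : Pn M (n + 1) →ₗ[R] Pn M n := ((rd R n).app M).hom

/-- The augmentation. -/
noncomputable abbrev aug : Pn M 0 →ₗ[R] M := (ep R M).hom

theorem surj_aug : Function.Surjective (aug M) := surj_ep R M

theorem exact_aug : Function.Exact (dn M 0) (aug M) := fun y =>
  ⟨fun h => (ShortComplex.moduleCat_exact_iff _).1 (exact_rd_ep R M) y h, fun ⟨z, hz⟩ =>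
    hz ▸ hom_congr R (show (rd R 0).app M ≫ ep R M = 0 by
      show (ep R ((Om R).obj M) ≫ (inc R).app M) ≫ ep R M = 0
      rw [Category.assoc, inc_ep, comp_zero]) z⟩

theorem exact_dn (n : ℕ) : Function.Exact (dn M (n + 1)) (dn M n) := fun y =>
  ⟨fun h => (ShortComplex.moduleCat_exact_iff _).1 (exact_rd R n M) y h, fun ⟨z, hz⟩ =>
    hz ▸ hom_congr R (rd_comp_rd R n M) z⟩

/-- `Tor (n + 1) (M, N) = 0`, expressed on the resolution of `M`. -/
def Ex (n : ℕ) (N : Type u) [AddCommGroup N] [Module R N] : Prop :=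
  Function.Exact ((dn M (n + 1)).lTensor N) ((dn M n).lTensor N)

theorem lTensor_dn_dn (n : ℕ) (N : Type u) [AddCommGroup N] [Module R N] (z : N ⊗[R] Pn M (n + 1 + 1)) :
    (dn M n).lTensor N ((dn M (n + 1)).lTensor N z) = 0 := by
  rw [← LinearMap.comp_apply, ← LinearMap.lTensor_comp,
    (exact_dn M n).linearMap_comp_eq_zero, LinearMap.lTensor_zero, LinearMap.zero_apply]

/-- Vanishing of Tor gives exactness. -/
theorem ex_of_isZero (n : ℕ) (N : Type u) [AddCommGroup N] [Module R N]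
    (h : IsZero (((Tor (Md R) (n + 1)).obj M).obj (ModuleCat.of R N))) : Ex M n N := by
  have h1 : IsZero (((hom' R n).obj (ModuleCat.of R N)).obj M) :=
    h.of_iso ((((torIso R n).app (ModuleCat.of R N)).app M).symm ≪≫
      (((torFlip R (n + 1)).app M).app (ModuleCat.of R N)).symm)
  have h2 : (sc R n (ModuleCat.of R N) M).Exact := (ShortComplex.exact_iff_isZero_homology _).2 h1
  exact fun y => ⟨fun hy => (ShortComplex.moduleCat_exact_iff _).1 h2 y hy,
    fun ⟨z, hz⟩ => hz ▸ lTensor_dn_dn M n N z⟩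

section SES

variable {N₁ N₂ N₃ : Type u} [AddCommGroup N₁] [Module R N₁] [AddCommGroup N₂] [Module R N₂]
  [AddCommGroup N₃] [Module R N₃] {i : N₁ →ₗ[R] N₂} {p : N₂ →ₗ[R] N₃}
  (hi : Function.Injective i) (hp : Function.Surjective p) (h : Function.Exact i p)

theorem comm_apply {N N' : Type u} [AddCommGroup N] [Module R N] [AddCommGroup N'] [Module R N']
    {P P' : Type u} [AddCommGroup P] [Module R P] [AddCommGroup P'] [Module R P']
    (φ : N →ₗ[R] N') (ψ : P →ₗ[R] P') (z : N ⊗[R] P) :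
    φ.rTensor P' (ψ.lTensor N z) = ψ.lTensor N' (φ.rTensor P z) := by
  rw [← LinearMap.comp_apply, ← LinearMap.comp_apply, LinearMap.rTensor_comp_lTensor, LinearMap.lTensor_comp_rTensor]

include hi in
theorem inj_rTensor (n : ℕ) : Function.Injective (i.rTensor (Pn M n)) :=
  Module.Flat.rTensor_preserves_injective_linearMap i hi

include hi hp h in
theorem ex_mid {n : ℕ} (h1 : Ex M n N₁) (h3 : Ex M n N₃) : Ex M n N₂ := fun z => by
  refine ⟨fun hz => ?_, fun ⟨w, hw⟩ => hw ▸ lTensor_dn_dn M n N₂ w⟩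
  obtain ⟨w3, hw3⟩ := (h3 (p.rTensor _ z)).1 (by rw [← comm_apply, hz, map_zero])
  obtain ⟨w, rfl⟩ := LinearMap.rTensor_surjective _ hp w3
  obtain ⟨v, hv⟩ := (rTensor_exact _ h hp (z - (dn M (n + 1)).lTensor N₂ w)).1
    (by rw [map_sub, comm_apply, hw3, sub_self])
  obtain ⟨u, rfl⟩ := (h1 v).1 (inj_rTensor M hi n (by
    rw [comm_apply, hv, map_sub, hz, lTensor_dn_dn, sub_zero, map_zero]))
  exact ⟨i.rTensor _ u + w, by rw [map_add, ← comm_apply, hv, sub_add_cancel]⟩

include hi hp h in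
theorem ex_left {n : ℕ} (h2 : Ex M n N₂) (h3 : Ex M (n + 1) N₃) : Ex M n N₁ := fun z => by
  refine ⟨fun hz => ?_, fun ⟨w, hw⟩ => hw ▸ lTensor_dn_dn M n N₁ w⟩
  obtain ⟨w, hw⟩ := (h2 (i.rTensor _ z)).1 (by rw [← comm_apply, hz, map_zero])
  obtain ⟨v3, hv3⟩ := (h3 (p.rTensor _ w)).1 (by
    rw [← comm_apply, hw, ← LinearMap.comp_apply, ← LinearMap.rTensor_comp, h.linearMap_comp_eq_zero,
      LinearMap.rTensor_zero, LinearMap.zero_apply])
  obtain ⟨v, rfl⟩ := LinearMap.rTensor_surjective _ hp v3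
  obtain ⟨u, hu⟩ := (rTensor_exact _ h hp (w - (dn M (n + 1 + 1)).lTensor N₂ v)).1
    (by rw [map_sub, comm_apply, hv3, sub_self])
  refine ⟨u, inj_rTensor M hi _ ?_⟩
  rw [comm_apply, hu, map_sub, hw, lTensor_dn_dn, sub_zero]

include hi hp h in
theorem ex_right {n : ℕ} (h2 : Ex M (n + 1) N₂) (h1 : Ex M n N₁) : Ex M (n + 1) N₃ := fun z => by
  refine ⟨fun hz => ?_, fun ⟨w, hw⟩ => hw ▸ lTensor_dn_dn M (n + 1) N₃ w⟩
  obtain ⟨y, rfl⟩ := LinearMap.rTensor_surjective _ hp z
  obtain ⟨x, hx⟩ := (rTensor_exact _ h hp ((dn M (n + 1)).lTensor N₂ y)).1 (by rw [comm_apply, hz])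
  obtain ⟨x', rfl⟩ := (h1 x).1 (inj_rTensor M hi n (by rw [comm_apply, hx, lTensor_dn_dn, map_zero]))
  obtain ⟨v, hv⟩ := (h2 (y - i.rTensor _ x')).1 (by
    rw [map_sub, ← comm_apply, hx, sub_self])
  refine ⟨p.rTensor _ v, ?_⟩
  rw [← comm_apply, hv, map_sub, ← LinearMap.comp_apply (p.rTensor _) (i.rTensor _), ← LinearMap.rTensor_comp,
    h.linearMap_comp_eq_zero, LinearMap.rTensor_zero, LinearMap.zero_apply, sub_zero]

include hi hp h in
theorem ex_right_zero (h2 : Ex M 0 N₂) (hinj : Function.Injective (i.rTensor M)) : Ex M 0 N₃ := fun z => by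
  refine ⟨fun hz => ?_, fun ⟨w, hw⟩ => hw ▸ lTensor_dn_dn M 0 N₃ w⟩
  obtain ⟨y, rfl⟩ := LinearMap.rTensor_surjective _ hp z
  obtain ⟨x, hx⟩ := (rTensor_exact _ h hp ((dn M 0).lTensor N₂ y)).1 (by rw [comm_apply, hz])
  obtain ⟨x', rfl⟩ := ((lTensor_exact N₁ (exact_aug M) (surj_aug M)) x).1 (hinj (by
    rw [comm_apply, hx, map_zero, ← LinearMap.comp_apply, ← LinearMap.lTensor_comp,
      (exact_aug M).linearMap_comp_eq_zero, LinearMap.lTensor_zero, LinearMap.zero_apply]))
  obtain ⟨v, hv⟩ := (h2 (y - i.rTensor _ x')).1 (by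
    rw [map_sub, ← comm_apply, hx, sub_self])
  refine ⟨p.rTensor _ v, ?_⟩
  rw [← comm_apply, hv, map_sub, ← LinearMap.comp_apply (p.rTensor _) (i.rTensor _), ← LinearMap.rTensor_comp,
    h.linearMap_comp_eq_zero, LinearMap.rTensor_zero, LinearMap.zero_apply, sub_zero]

include hi hp h in
theorem injective_of_ex_zero (h3 : Ex M 0 N₃) : Function.Injective (i.rTensor M) := by
  rw [injective_iff_map_eq_zero]
  intro z hz
  obtain ⟨y, rfl⟩ := LinearMap.lTensor_surjective N₁ (surj_aug M) z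
  obtain ⟨w, hw⟩ := ((lTensor_exact N₂ (exact_aug M) (surj_aug M)) (i.rTensor _ y)).1 (by rw [← comm_apply, hz])
  obtain ⟨v3, hv3⟩ := (h3 (p.rTensor _ w)).1 (by
    rw [← comm_apply, hw, ← LinearMap.comp_apply, ← LinearMap.rTensor_comp, h.linearMap_comp_eq_zero,
      LinearMap.rTensor_zero, LinearMap.zero_apply])
  obtain ⟨v, rfl⟩ := LinearMap.rTensor_surjective _ hp v3
  obtain ⟨u, hu⟩ := (rTensor_exact _ h hp (w - (dn M (0 + 1)).lTensor N₂ v)).1
    (by rw [map_sub, comm_apply, hv3, sub_self])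
  have : (dn M 0).lTensor N₁ u = y := inj_rTensor M hi 0 (by rw [comm_apply, hu, map_sub, hw, lTensor_dn_dn, sub_zero])
  rw [← this, ← LinearMap.comp_apply, ← LinearMap.lTensor_comp, (exact_aug M).linearMap_comp_eq_zero,
    LinearMap.lTensor_zero, LinearMap.zero_apply]

end SES

/-- Tor commutes with unions of submodules. -/
theorem ex_of_fg {n : ℕ} {N : Type u} [AddCommGroup N] [Module R N]
    (h : ∀ N' : Submodule R N, N'.FG → Ex M n N') : Ex M n N := fun z => by
  refine ⟨fun hz => ?_, fun ⟨w, hw⟩ => hw ▸ lTensor_dn_dn M n N w⟩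
  obtain ⟨N', hfin, hN'⟩ := TensorProduct.exists_finite_submodule_left_of_setFinite {z} (Set.finite_singleton z)
  obtain ⟨z', rfl⟩ := hN' rfl
  obtain ⟨w, rfl⟩ := ((h N' (Module.Finite.iff_fg.1 hfin)) z').1
    (inj_rTensor M N'.injective_subtype n (by rw [comm_apply, hz, map_zero]))
  exact ⟨N'.subtype.rTensor _ w, (comm_apply _ _ _).symm⟩

theorem ex_finsupp {n : ℕ} {N : Type u} [AddCommGroup N] [Module R N] (h : Ex M n N) (ι : Type u) :
    Ex M n (ι →₀ N) := fun z => by
  classical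
  refine ⟨fun hz => ?_, fun ⟨w, hw⟩ => hw ▸ lTensor_dn_dn M n _ w⟩
  let e : ∀ k, (ι →₀ N) ⊗[R] Pn M k ≃ₗ[R] (ι →₀ N ⊗[R] Pn M k) := fun k => TensorProduct.finsuppLeft R R N (Pn M k) ι
  have he : ∀ k (x : (ι →₀ N) ⊗[R] Pn M (k + 1)) a, e k ((dn M k).lTensor _ x) a = (dn M k).lTensor N (e (k + 1) x a) := by
    intro k x a
    induction x with
    | zero => simp
    | tmul q m => simp [e, TensorProduct.finsuppLeft_apply_tmul_apply]
    | add x y hx hy => simp only [map_add, Finsupp.add_apply, hx, hy]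
  have hex : ∀ a, ∃ w, (dn M (n + 1)).lTensor N w = e (n + 1) z a ∧ (e (n + 1) z a = 0 → w = 0) := fun a => by
    by_cases h0 : e (n + 1) z a = 0
    · exact ⟨0, by rw [h0, map_zero], fun _ => rfl⟩
    · obtain ⟨w, hw⟩ := (h (e (n + 1) z a)).1 (by rw [← he, hz, map_zero, Finsupp.zero_apply])
      exact ⟨w, hw, fun hh => absurd hh h0⟩
  choose w hw hw0 using hex
  refine ⟨(e (n + 1 + 1)).symm (Finsupp.onFinset (e (n + 1) z).support w fun a ha => by
    rw [Finsupp.mem_support_iff]; exact fun hh => ha (hw0 a hh)), (e (n + 1)).injective (Finsupp.ext fun a => ?_)⟩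
  rw [he, LinearEquiv.apply_symm_apply, Finsupp.onFinset_apply, hw]

/-- Change of rings: vanishing over all modules of an algebra. -/
theorem ex_of_algebra (B : Type u) [CommRing B] [Algebra R B] [Module.Flat B (B ⊗[R] M)] {m : ℕ}
    (hB : ∀ n < m, Ex M n B) :
    ∀ n < m, ∀ (N : Type u) [AddCommGroup N] [Module R N] [Module B N] [IsScalarTower R B N], Ex M n N := by
  intro n
  induction n with
  | zero =>
    intro hn N _ _ _ _
    let π := (Finsupp.linearCombination B (id : N → N))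
    let ι₁ : ↥(LinearMap.ker π) →ₗ[R] (N →₀ B) := (LinearMap.ker π).subtype.restrictScalars R
    let π₁ : (N →₀ B) →ₗ[R] N := π.restrictScalars R
    refine @ex_right_zero R _ M ↥(LinearMap.ker π) (N →₀ B) N _ _ _ _ _ _ ι₁ π₁
      Subtype.val_injective (Finsupp.linearCombination_id_surjective B N) (show Function.Exact ι₁ π₁ from LinearMap.exact_subtype_ker_map π)
      (ex_finsupp M (hB 0 hn) N) ?_
    have h := Module.Flat.rTensor_preserves_injective_linearMap (M := B ⊗[R] M) (LinearMap.ker π).subtype Subtype.val_injective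
    let c1 := TensorProduct.AlgebraTensorModule.cancelBaseChange R B B (LinearMap.ker π) M
    let c2 := TensorProduct.AlgebraTensorModule.cancelBaseChange R B B (N →₀ B) M
    intro x y hxy
    obtain ⟨x, rfl⟩ := c1.surjective x
    obtain ⟨y, rfl⟩ := c1.surjective y
    have hc : ∀ w, ((LinearMap.ker π).subtype.restrictScalars R).rTensor M (c1 w) =
        c2 ((LinearMap.ker π).subtype.rTensor (B ⊗[R] M) w) := fun w => by
      induction w with
      | zero => simp
      | tmul q bm =>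
        induction bm with
        | zero => simp
        | tmul b m => simp [c1, c2]
        | add u v hu hv => simp only [tmul_add, map_add, hu, hv]
      | add u v hu hv => simp only [map_add, hu, hv]
    rw [hc, hc] at hxy
    rw [h (c2.injective hxy)]
  | succ n ih =>
    intro hn N _ _ _ _
    let π := (Finsupp.linearCombination B (id : N → N))
    let ι₁ : ↥(LinearMap.ker π) →ₗ[R] (N →₀ B) := (LinearMap.ker π).subtype.restrictScalars R
    let π₁ : (N →₀ B) →ₗ[R] N := π.restrictScalars R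
    exact ex_right M (i := ι₁) (p := π₁)
      Subtype.val_injective (Finsupp.linearCombination_id_surjective B N) (show Function.Exact ι₁ π₁ from LinearMap.exact_subtype_ker_map π)
      (ex_finsupp M (hB (n + 1) hn) N) (ih (by omega) (LinearMap.ker π))

/-- A flat algebra has no higher Tor. -/
theorem ex_of_flat (B : Type u) [AddCommGroup B] [Module R B] [Module.Flat R B] (n : ℕ) : Ex M n B :=
  Module.Flat.lTensor_exact B (exact_dn M n)

theorem flat_of_ex (h : ∀ J : Ideal R, Ex M 0 (R ⧸ J)) : Module.Flat R M :=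
  Module.Flat.iff_rTensor_injective'.2 fun J =>
    injective_of_ex_zero M (i := J.subtype) (p := Submodule.mkQ J) Subtype.val_injective (Submodule.mkQ_surjective J)
      (LinearMap.exact_subtype_mkQ J) (h J)

end Groth.Agent.H1TorFlip
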