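import Groth.Agent.H1TorFlip.Kernels

/-!
# Balance of Tor: `Tor i` is symmetric, naturally in both variables
-/

set_option autoImplicit false
universe u

open CategoryTheory Limits MonoidalCategory

namespace Groth.Agent.H1TorFlip

variable (R : Type u) [CommRing R]

/-- The short complexes `M ⊗ X (n+2) → M ⊗ X (n+1) → M ⊗ X n`. -/
noncomputable def sc (n : ℕ) (M N : Md R) : ShortComplex (Md R) :=
  ShortComplex.mk (M ◁ (rd R (n + 1)).app N) (M ◁ (rd R n).app N)
    (by rw [← whiskerLeft_comp, rd_comp_rd, MonoidalPreadditive.whiskerLeft_zero])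

/-- The functor of short complexes. -/
noncomputable def scF (n : ℕ) : Md R ⥤ Md R ⥤ ShortComplex (Md R) where
  obj M :=
    { obj := fun N => sc R n M N
      map := fun {N N'} g => ShortComplex.homMk (S₁ := sc R n M N) (S₂ := sc R n M N') (M ◁ (rX R (n + 2)).map g) (M ◁ (rX R (n + 1)).map g) (M ◁ (rX R n).map g)
        (by dsimp only [sc]; rw [← whiskerLeft_comp, ← whiskerLeft_comp, (rd R (n + 1)).naturality])
        (by dsimp only [sc]; rw [← whiskerLeft_comp, ← whiskerLeft_comp, (rd R n).naturality])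
      map_id := fun N => by ext1 <;> exact (congrArg (fun φ => M ◁ φ) ((rX R _).map_id N)).trans (whiskerLeft_id _ _)
      map_comp := fun g g' => by ext1 <;> exact (congrArg (fun φ => M ◁ φ) ((rX R _).map_comp g g')).trans (whiskerLeft_comp _ _ _) }
  map {M M'} f :=
    { app := fun N => ShortComplex.homMk (S₁ := sc R n M N) (S₂ := sc R n M' N) (f ▷ (rX R (n + 2)).obj N) (f ▷ (rX R (n + 1)).obj N) (f ▷ (rX R n).obj N)
        (whisker_exchange f ((rd R (n + 1)).app N)).symm (whisker_exchange f ((rd R n).app N)).symm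
      naturality := fun N N' g => by ext1 <;> exact whisker_exchange f ((rX R _).map g) }
  map_id M := by ext N <;> exact hom_congr R (id_whiskerRight _ _) _
  map_comp f f' := by ext N <;> exact hom_congr R (comp_whiskerRight f f' _) _

/-- Higher homology of the tensored resolution. -/
noncomputable def hom' (n : ℕ) : Md R ⥤ Md R ⥤ Md R :=
  scF R n ⋙ (Functor.whiskeringRight _ _ _).obj (ShortComplex.homologyFunctor (Md R))

/-- The degree shift. -/
noncomputable def homShift (n : ℕ) : hom' R (n + 1) ≅ hom' R n ⋙ (Functor.whiskeringLeft _ _ _).obj (Om R) :=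
  NatIso.ofComponents (fun M => NatIso.ofComponents (fun N => Iso.refl _)
    (fun g => (Category.comp_id _).trans (Category.id_comp _).symm))
    (fun {M M'} f => NatTrans.ext (funext fun N => (Category.comp_id _).trans (by
      refine Eq.trans ?_ (Category.id_comp _).symm
      show ShortComplex.homologyMap (((scF R (n + 1)).map f).app N) =
        ShortComplex.homologyMap (((scF R n).map f).app ((Om R).obj N))
      rfl)))

theorem exact_whiskerLeft (M N : Md R) :
    Function.Exact (M ◁ (rd R (0 + 1)).app N).hom (M ◁ ep R ((Om R).obj N)).hom := by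
  have e : Function.Exact ((rd R (0 + 1)).app N).hom (ep R ((Om R).obj N)).hom := fun y => by
    constructor
    · intro h
      exact (ShortComplex.moduleCat_exact_iff _).1 (exact_rd_ep R ((Om R).obj N)) y h
    · rintro ⟨z, rfl⟩
      have h0 : (rd R (0 + 1)).app N ≫ ep R ((Om R).obj N) = 0 := by
        show (ep R ((Om R).obj ((Om R).obj N)) ≫ (inc R).app ((Om R).obj N)) ≫ ep R ((Om R).obj N) = 0
        rw [Category.assoc, inc_ep, comp_zero]
      exact hom_congr R h0 z
  exact lTensor_exact _ e (surj_ep R _)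

theorem sc0_zero (M N : Md R) : (sc R 0 M N).f ≫ (M ◁ ep R ((Om R).obj N)) = 0 :=
  ModuleCat.hom_ext (LinearMap.ext fun z => (exact_whiskerLeft R M N).apply_apply_eq_zero z)

/-- The right homology data computing the first Tor. -/
noncomputable def rhd (M N : Md R) : (sc R 0 M N).RightHomologyData :=
  have hex : (ShortComplex.mk (sc R 0 M N).f (M ◁ ep R ((Om R).obj N)) (sc0_zero R M N)).Exact :=
    (ShortComplex.moduleCat_exact_iff _).2 fun x hx => (exact_whiskerLeft R M N x).1 hx
  haveI hepi : Epi (M ◁ ep R ((Om R).obj N)) :=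
    (ModuleCat.epi_iff_surjective _).2 (LinearMap.lTensor_surjective _ (surj_ep R _))
  haveI : Epi (ShortComplex.mk (sc R 0 M N).f (M ◁ ep R ((Om R).obj N)) (sc0_zero R M N)).g := hepi
  have hp := hex.gIsCokernel
  have hg : hp.desc (CokernelCofork.ofπ _ (sc R 0 M N).zero) = M ◁ (inc R).app N := by
    rw [← cancel_epi (M ◁ ep R ((Om R).obj N))]
    exact (hp.fac (CokernelCofork.ofπ _ (sc R 0 M N).zero) WalkingParallelPair.one).trans (whiskerLeft_comp M _ _)
  { Q := M ⊗ (Om R).obj N
    H := ModuleCat.of R (kR R M N)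
    p := M ◁ ep R ((Om R).obj N)
    ι := ModuleCat.ofHom (kR R M N).subtype
    wp := sc0_zero R M N
    hp := hp
    wι := by
      rw [hg]
      exact ModuleCat.hom_ext (LinearMap.ext fun x => x.2)
    hι := by
        refine KernelFork.IsLimit.ofι' _ _ fun {A} k hk => ⟨ModuleCat.ofHom (k.hom.codRestrict (kR R M N) fun a => ?_), rfl⟩
        rw [hg] at hk
        exact hom_congr R hk a }

theorem rhd_g' (M N : Md R) : (rhd R M N).g' = M ◁ (inc R).app N := by
  haveI : Epi (rhd R M N).p :=
    (ModuleCat.epi_iff_surjective _).2 (LinearMap.lTensor_surjective _ (surj_ep R _))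
  rw [← cancel_epi (rhd R M N).p]
  exact (rhd R M N).p_g'.trans (whiskerLeft_comp M _ _)

theorem hom0_natural {M M' N N' : Md R} (f : M ⟶ M') (g : N ⟶ N') :
    ShortComplex.homologyMap (((scF R 0).obj M).map g ≫ ((scF R 0).map f).app N') ≫ (rhd R M' N').homologyIso.hom =
      (rhd R M N).homologyIso.hom ≫ kRmap f g := by
  refine ShortComplex.RightHomologyMapData.homologyMap_comm (h₁ := rhd R M N) (h₂ := rhd R M' N')
    (φ := ((scF R 0).obj M).map g ≫ ((scF R 0).map f).app N')
    ⟨f ⊗ₘ (Om R).map g, kRmap f g, ?_, ?_, ?_⟩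
  · show (M ◁ ep R ((Om R).obj N)) ≫ (f ⊗ₘ (Om R).map g) =
      ((M ◁ (Fo R).map ((Om R).map g)) ≫ (f ▷ (Fo R).obj ((Om R).obj N'))) ≫ (M' ◁ ep R ((Om R).obj N'))
    rw [tensorHom_def', Category.assoc, ← whisker_exchange f (ep R ((Om R).obj N')), ← Category.assoc,
      ← whiskerLeft_comp, ← ep_naturality, whiskerLeft_comp, Category.assoc]
  · have key : (f ⊗ₘ (Om R).map g) ≫ (M' ◁ (inc R).app N') =
        (M ◁ (inc R).app N) ≫ ((M ◁ (Fo R).map g) ≫ (f ▷ (Fo R).obj N')) := by
      rw [← tensorHom_def', ← id_tensorHom, ← id_tensorHom, tensorHom_comp_tensorHom,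
        tensorHom_comp_tensorHom, (inc R).naturality, Category.comp_id, Category.id_comp]
    exact (congrArg (fun φ => (f ⊗ₘ (Om R).map g) ≫ φ) (rhd_g' R M' N')).trans
      (key.trans (congrArg (fun φ => φ ≫ ((M ◁ (Fo R).map g) ≫ (f ▷ (Fo R).obj N'))) (rhd_g' R M N).symm))
  · exact ModuleCat.hom_ext (LinearMap.ext fun x => rfl)

/-- The first homology is the kernel bifunctor. -/
noncomputable def homZero : hom' R 0 ≅ KR R :=
  NatIso.ofComponents (fun M => NatIso.ofComponents (fun N => (rhd R M N).homologyIso) (fun {N N'} g => by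
      have e : ((scF R 0).obj M).map g ≫ ((scF R 0).map (𝟙 M)).app N' = ((scF R 0).obj M).map g := by
        rw [CategoryTheory.Functor.map_id]; exact Category.comp_id _
      have h := hom0_natural R (𝟙 M) g
      rw [e] at h
      exact h))
    (fun {M M'} f => NatTrans.ext (funext fun N => by
      have e : ((scF R 0).obj M).map (𝟙 N) ≫ ((scF R 0).map f).app N = ((scF R 0).map f).app N := by
        rw [CategoryTheory.Functor.map_id]; exact Category.id_comp _
      have h := hom0_natural R f (𝟙 N)
      rw [e] at h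
      exact h))

/-- Mathlib's `Tor` in degree `n + 1` is computed by the functorial resolution. -/
noncomputable def torIso (n : ℕ) : Tor (Md R) (n + 1) ≅ hom' R n := by
  let cx : Md R → Md R → ChainComplex (Md R) ℕ := fun M N =>
    (((tensoringLeft (Md R)).obj M).mapHomologicalComplex _).obj ((res R).obj N)
  let sIso : ∀ M N, ((HomologicalComplex.shortComplexFunctor' (Md R) (ComplexShape.down ℕ) (n + 2) (n + 1) n).obj (cx M N)) ≅ sc R n M N :=
    fun M N => ShortComplex.isoMk (Iso.refl _) (Iso.refl _) (Iso.refl _)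
      (by
        show 𝟙 _ ≫ (M ◁ (rd R (n + 1)).app N) = (M ◁ ((res R).obj N).d (n + 2) (n + 1)) ≫ 𝟙 _
        rw [Category.id_comp, Category.comp_id, res_d]; rfl)
      (by
        show 𝟙 _ ≫ (M ◁ (rd R n).app N) = (M ◁ ((res R).obj N).d (n + 1) n) ≫ 𝟙 _
        rw [Category.id_comp, Category.comp_id, res_d]; rfl)
  let hi := HomologicalComplex.homologyFunctorIso' (Md R) (ComplexShape.down ℕ) (n + 2) (n + 1) n (by simp) (by simp)
  let comp : ∀ M N, ((Tor (Md R) (n + 1)).obj M).obj N ≅ ((hom' R n).obj M).obj N := fun M N =>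
    (projRes R N).isoLeftDerivedObj ((tensoringLeft (Md R)).obj M) (n + 1) ≪≫ hi.app (cx M N) ≪≫
      ShortComplex.homologyMapIso (sIso M N)
  have nat1 : ∀ M {N N' : Md R} (g : N ⟶ N'), ((Tor (Md R) (n + 1)).obj M).map g ≫ (comp M N').hom =
      (comp M N).hom ≫ ((hom' R n).obj M).map g := fun M N N' g => by
    have h1 := ProjectiveResolution.isoLeftDerivedObj_hom_naturality g (projRes R N) (projRes R N')
      ((res R).map g) (by
        show (Fo R).map g ≫ ((projRes R N').π.f 0) = ((projRes R N).π.f 0) ≫ g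
        simp only [projRes, ChainComplex.toSingle₀Equiv_symm_apply_f_zero]
        exact ep_naturality R g) ((tensoringLeft (Md R)).obj M) (n + 1)
    have h2 := hi.hom.naturality ((((tensoringLeft (Md R)).obj M).mapHomologicalComplex _).map ((res R).map g))
    have h3 : (HomologicalComplex.shortComplexFunctor' (Md R) (ComplexShape.down ℕ) (n + 2) (n + 1) n).map
        ((((tensoringLeft (Md R)).obj M).mapHomologicalComplex _).map ((res R).map g)) ≫ (sIso M N').hom =
        (sIso M N).hom ≫ ((scF R n).obj M).map g := by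
      ext1 <;> exact (Category.comp_id _).trans (Category.id_comp _).symm
    show _ ≫ ((_ ≫ _ ≫ _)) = (_ ≫ _ ≫ _) ≫ _
    refine (reassoc_of% h1) _ |>.trans ?_
    rw [Category.assoc, Category.assoc]
    refine congrArg _ ?_
    refine ((reassoc_of% h2) _).trans ?_
    refine congrArg _ ?_
    show ShortComplex.homologyMap _ ≫ ShortComplex.homologyMap _ = ShortComplex.homologyMap _ ≫ ShortComplex.homologyMap _
    rw [← ShortComplex.homologyMap_comp, ← ShortComplex.homologyMap_comp]
    exact congrArg (fun φ => ShortComplex.homologyMap φ) h3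
  refine NatIso.ofComponents (fun M => NatIso.ofComponents (comp M) (fun g => nat1 M g)) (fun {M M'} f =>
    NatTrans.ext (funext fun N => ?_))
  show (NatTrans.leftDerived ((tensoringLeft (Md R)).map f) (n + 1)).app N ≫ (comp M' N).hom =
    (comp M N).hom ≫ ((hom' R n).map f).app N
  rw [ProjectiveResolution.leftDerived_app_eq ((tensoringLeft (Md R)).map f) (projRes R N) (n + 1)]
  show (_ ≫ _ ≫ _) ≫ (_ ≫ _ ≫ _) = (_ ≫ _ ≫ _) ≫ _
  rw [Category.assoc, Category.assoc, Category.assoc, Category.assoc, Iso.inv_hom_id_assoc]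
  refine congrArg _ ?_
  have h2 := hi.hom.naturality ((NatTrans.mapHomologicalComplex ((tensoringLeft (Md R)).map f) (ComplexShape.down ℕ)).app ((res R).obj N))
  refine ((reassoc_of% h2) _).trans ?_
  refine congrArg _ ?_
  show ShortComplex.homologyMap _ ≫ ShortComplex.homologyMap _ = ShortComplex.homologyMap _ ≫ ShortComplex.homologyMap _
  rw [← ShortComplex.homologyMap_comp, ← ShortComplex.homologyMap_comp]
  refine congrArg (fun φ => ShortComplex.homologyMap φ) ?_
  ext1 <;> exact (Category.comp_id _).trans (Category.id_comp _).symm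

/-- Shift of Tor in the second variable. -/
noncomputable def torShift (n : ℕ) : Tor (Md R) (n + 2) ≅ Tor (Md R) (n + 1) ⋙ (Functor.whiskeringLeft _ _ _).obj (Om R) :=
  torIso R (n + 1) ≪≫ homShift R n ≪≫ Functor.isoWhiskerRight (torIso R n).symm _

/-- The first Tor. -/
noncomputable def torOne : Tor (Md R) 1 ≅ KR R := torIso R 0 ≪≫ homZero R

/-- Shift of Tor in the first variable. -/
noncomputable def torShiftLeft : ∀ n : ℕ, Om R ⋙ Tor (Md R) (n + 1) ≅ Tor (Md R) (n + 2)
  | 0 => Functor.isoWhiskerLeft (Om R) (torOne R) ≪≫ KROm R ≪≫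
      Functor.isoWhiskerRight ((KRKL R).symm ≪≫ (torOne R).symm) _ ≪≫ (torShift R 0).symm
  | n + 1 => Functor.isoWhiskerLeft (Om R) (torShift R n) ≪≫ (Functor.associator _ _ _).symm ≪≫
      Functor.isoWhiskerRight (torShiftLeft n) _ ≪≫ (torShift R (n + 1)).symm

/-- Symmetry of the higher Tor. -/
noncomputable def torFlipSucc : ∀ n : ℕ, Tor (Md R) (n + 1) ≅ (Tor (Md R) (n + 1)).flip
  | 0 => torOne R ≪≫ KRKL R ≪≫ KLflip R ≪≫ (flipFunctor _ _ _).mapIso (torOne R).symm
  | n + 1 =>
    let e : (Tor (Md R) (n + 1)).flip ⋙ (Functor.whiskeringLeft _ _ _).obj (Om R) ≅ (Om R ⋙ Tor (Md R) (n + 1)).flip :=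
      NatIso.ofComponents (fun M => NatIso.ofComponents (fun N => Iso.refl _)
        (fun g => (Category.comp_id _).trans (Category.id_comp _).symm))
        (fun f => NatTrans.ext (funext fun N => (Category.comp_id _).trans (Category.id_comp _).symm))
    torShift R n ≪≫ Functor.isoWhiskerRight (torFlipSucc n) _ ≪≫ e ≪≫ (flipFunctor _ _ _).mapIso (torShiftLeft R n)

theorem fromLeftDerivedZero_natural {M M' : Md R} (f : M ⟶ M') (N : Md R) :
    (NatTrans.leftDerived ((tensoringLeft (Md R)).map f) 0).app N ≫ ((tensoringLeft (Md R)).obj M').fromLeftDerivedZero.app N =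
      ((tensoringLeft (Md R)).obj M).fromLeftDerivedZero.app N ≫ (f ▷ N) := by
  let P := projRes R N
  rw [ProjectiveResolution.leftDerived_app_eq ((tensoringLeft (Md R)).map f) P 0,
    P.fromLeftDerivedZero_eq, P.fromLeftDerivedZero_eq, Category.assoc, Category.assoc, Iso.inv_hom_id_assoc,
    Category.assoc, Category.assoc]
  refine congrArg _ ?_
  let φ := (NatTrans.mapHomologicalComplex ((tensoringLeft (Md R)).map f) (ComplexShape.down ℕ)).app P.complex
  show HomologicalComplex.homologyMap φ 0 ≫ _ = _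
  show HomologicalComplex.homologyMap φ 0 ≫ HomologicalComplex.homologyι _ 0 ≫ _ = HomologicalComplex.homologyι _ 0 ≫ _
  rw [HomologicalComplex.homologyι_naturality_assoc]
  refine congrArg _ ?_
  rw [← cancel_epi (HomologicalComplex.pOpcycles _ 0)]
  simp only [HomologicalComplex.p_opcyclesMap_assoc, ProjectiveResolution.fromLeftDerivedZero',
    HomologicalComplex.p_descOpcycles, HomologicalComplex.p_descOpcycles_assoc]
  exact (whisker_exchange f (P.π.f 0)).symm

/-- `Tor 0` is the tensor product. -/
noncomputable def torZero : Tor (Md R) 0 ≅ tensoringLeft (Md R) :=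
  NatIso.ofComponents (fun M => ((tensoringLeft (Md R)).obj M).leftDerivedZeroIsoSelf)
    (fun f => NatTrans.ext (funext fun N => fromLeftDerivedZero_natural R f N))

/-- The braiding as an isomorphism of bifunctors. -/
noncomputable def tensorFlip : tensoringLeft (Md R) ≅ (tensoringLeft (Md R)).flip :=
  NatIso.ofComponents (fun M => NatIso.ofComponents (fun N => β_ M N)
    (fun g => BraidedCategory.braiding_naturality_right M g))
    (fun f => NatTrans.ext (funext fun N => BraidedCategory.braiding_naturality_left f N))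

/-- Balance of Tor. -/
noncomputable def torFlip : ∀ i : ℕ, Tor (Md R) i ≅ (Tor (Md R) i).flip
  | 0 => torZero R ≪≫ tensorFlip R ≪≫ (flipFunctor _ _ _).mapIso (torZero R).symm
  | n + 1 => torFlipSucc R n

end Groth.Agent.H1TorFlip
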