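import Groth.Agent.H1TorFlip.Resolution

/-!
# The two kernel bifunctors computing the first Tor, and the snake isomorphism between them
-/

set_option autoImplicit false
universe u

open CategoryTheory Limits MonoidalCategory

namespace Groth.Agent.H1TorFlip

section Snake

variable {R : Type u} [CommRing R] {P W Q Q₁ Q₂ X Y Z : Type u}
  [AddCommGroup P] [Module R P] [AddCommGroup W] [Module R W] [AddCommGroup Q] [Module R Q]
  [AddCommGroup Q₁] [Module R Q₁] [AddCommGroup Q₂] [Module R Q₂]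
  [AddCommGroup X] [Module R X] [AddCommGroup Y] [Module R Y] [AddCommGroup Z] [Module R Z]
  (a : P →ₗ[R] X) (b : P →ₗ[R] Q) (c : W →ₗ[R] Q) (d : W →ₗ[R] Y)
  (kX : X →ₗ[R] Q₁) (e : Q →ₗ[R] Q₁) (kY : Y →ₗ[R] Q₂) (g : Q →ₗ[R] Q₂)

/-- Pairs with the same image in the middle. -/
def pairs : Submodule R (P × W) := LinearMap.ker (b.comp (LinearMap.fst R P W) - c.comp (LinearMap.snd R P W))

theorem mem_pairs {s : P × W} : s ∈ pairs b c ↔ b s.1 = c s.2 := by
  simp [pairs, sub_eq_zero]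

theorem snake_exists (ha : Function.Surjective a) (hd : Function.Surjective d)
    (hb : Function.Injective b) (hc : Function.Injective c)
    (hea : ∀ p, e (b p) = kX (a p)) (hgd : ∀ w, g (c w) = kY (d w))
    (hec : Function.Exact c e) (hgb : Function.Exact b g)
    (u : Z →ₗ[R] P) (v : Z →ₗ[R] W) (hu : Function.Exact u a) (hv : Function.Exact v d)
    (huv : ∀ z, b (u z) = c (v z)) :
    ∃ δ : LinearMap.ker kX ≃ₗ[R] LinearMap.ker kY, ∀ (x : LinearMap.ker kX) (p : P) (w : W),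
      a p = x → b p = c w → (δ x : Y) = d w := by
  let α : pairs b c →ₗ[R] LinearMap.ker kX :=
    ((a.comp (LinearMap.fst R P W)).comp (pairs b c).subtype).codRestrict _ fun s => by
      show kX (a s.1.1) = 0
      rw [← hea, mem_pairs b c |>.1 s.2]
      exact hec.apply_apply_eq_zero s.1.2
  let β : pairs b c →ₗ[R] LinearMap.ker kY :=
    ((d.comp (LinearMap.snd R P W)).comp (pairs b c).subtype).codRestrict _ fun s => by
      show kY (d s.1.2) = 0
      rw [← hgd, ← mem_pairs b c |>.1 s.2]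
      exact hgb.apply_apply_eq_zero s.1.1
  have hα : Function.Surjective α := fun ⟨x, hx⟩ => by
    obtain ⟨p, rfl⟩ := ha x
    obtain ⟨w, hw⟩ := (hec (b p)).1 ((hea p).trans hx)
    exact ⟨⟨(p, w), (mem_pairs b c).2 hw.symm⟩, rfl⟩
  have hβ : Function.Surjective β := fun ⟨y, hy⟩ => by
    obtain ⟨w, rfl⟩ := hd y
    obtain ⟨p, hp⟩ := (hgb (c w)).1 ((hgd w).trans hy)
    exact ⟨⟨(p, w), (mem_pairs b c).2 hp⟩, rfl⟩
  have hk : LinearMap.ker α = LinearMap.ker β := by
    ext s
    obtain ⟨⟨p, w⟩, hs⟩ := s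
    have hs' : b p = c w := (mem_pairs b c).1 hs
    constructor
    · intro h
      obtain ⟨z, rfl⟩ := (hu p).1 (congrArg Subtype.val h)
      rw [huv] at hs'
      refine Subtype.ext ?_
      show d w = 0
      rw [← hc hs']
      exact hv.apply_apply_eq_zero z
    · intro h
      obtain ⟨z, rfl⟩ := (hv w).1 (congrArg Subtype.val h)
      rw [← huv] at hs'
      refine Subtype.ext ?_
      show a p = 0
      rw [hb hs']
      exact hu.apply_apply_eq_zero z
  refine ⟨(α.quotKerEquivOfSurjective hα).symm.trans ((Submodule.quotEquivOfEq _ _ hk).trans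
    (β.quotKerEquivOfSurjective hβ)), fun x p w hp hw => ?_⟩
  have hx : x = α ⟨(p, w), (mem_pairs b c).2 hw⟩ := Subtype.ext hp.symm
  rw [hx, LinearEquiv.trans_apply,
    (α.quotKerEquivOfSurjective hα).symm_apply_eq.2 (show α ⟨(p, w), (mem_pairs b c).2 hw⟩ =
      α.quotKerEquivOfSurjective hα (Submodule.Quotient.mk ⟨(p, w), (mem_pairs b c).2 hw⟩) from rfl)]
  rfl

end Snake

variable (R : Type u) [CommRing R]

theorem hom_congr {A B : Md R} {f g : A ⟶ B} (h : f = g) (x : A) : f.hom x = g.hom x := by rw [h]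

/-- `ker (M ⊗ ΩN → M ⊗ FN)`. -/
noncomputable abbrev kR (M N : Md R) : Submodule R (M ⊗ (Om R).obj N : Md R) :=
  LinearMap.ker (M ◁ (inc R).app N).hom

/-- `ker (ΩM ⊗ N → FM ⊗ N)`. -/
noncomputable abbrev kL (M N : Md R) : Submodule R ((Om R).obj M ⊗ N : Md R) :=
  LinearMap.ker ((inc R).app M ▷ N).hom

variable {R}

theorem map_kR {M M' N N' : Md R} (f : M ⟶ M') (g : N ⟶ N') (x : kR R M N) :
    (f ⊗ₘ (Om R).map g).hom x ∈ kR R M' N' := by
  have h : (f ⊗ₘ (Om R).map g) ≫ (M' ◁ (inc R).app N') = (M ◁ (inc R).app N) ≫ (f ⊗ₘ (Fo R).map g) := by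
    rw [← id_tensorHom, ← id_tensorHom, tensorHom_comp_tensorHom, tensorHom_comp_tensorHom, (inc R).naturality,
      Category.comp_id, Category.id_comp]
  show (M' ◁ (inc R).app N').hom ((f ⊗ₘ (Om R).map g).hom x) = 0
  rw [← ModuleCat.comp_apply, h, ModuleCat.comp_apply, show (M ◁ (inc R).app N).hom (x : _) = 0 from x.2, map_zero]

theorem map_kL {M M' N N' : Md R} (f : M ⟶ M') (g : N ⟶ N') (x : kL R M N) :
    ((Om R).map f ⊗ₘ g).hom x ∈ kL R M' N' := by
  have h : ((Om R).map f ⊗ₘ g) ≫ ((inc R).app M' ▷ N') = ((inc R).app M ▷ N) ≫ ((Fo R).map f ⊗ₘ g) := by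
    rw [← tensorHom_id, ← tensorHom_id, tensorHom_comp_tensorHom, tensorHom_comp_tensorHom, (inc R).naturality,
      Category.comp_id, Category.id_comp]
  show ((inc R).app M' ▷ N').hom (((Om R).map f ⊗ₘ g).hom x) = 0
  rw [← ModuleCat.comp_apply, h, ModuleCat.comp_apply, show ((inc R).app M ▷ N).hom (x : _) = 0 from x.2, map_zero]

/-- Functoriality of `kR`. -/
noncomputable def kRmap {M M' N N' : Md R} (f : M ⟶ M') (g : N ⟶ N') :
    ModuleCat.of R (kR R M N) ⟶ ModuleCat.of R (kR R M' N') :=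
  ModuleCat.ofHom (((f ⊗ₘ (Om R).map g).hom.comp (kR R M N).subtype).codRestrict _ (map_kR f g))

/-- Functoriality of `kL`. -/
noncomputable def kLmap {M M' N N' : Md R} (f : M ⟶ M') (g : N ⟶ N') :
    ModuleCat.of R (kL R M N) ⟶ ModuleCat.of R (kL R M' N') :=
  ModuleCat.ofHom ((((Om R).map f ⊗ₘ g).hom.comp (kL R M N).subtype).codRestrict _ (map_kL f g))

theorem kRmap_id (M N : Md R) : kRmap (𝟙 M) (𝟙 N) = 𝟙 _ := by
  refine ModuleCat.hom_ext (LinearMap.ext fun x => Subtype.ext ?_)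
  show (𝟙 M ⊗ₘ (Om R).map (𝟙 N)).hom (x : _) = (x : _)
  rw [CategoryTheory.Functor.map_id, id_tensorHom_id]; rfl

theorem kRmap_comp {M M' M'' N N' N'' : Md R} (f : M ⟶ M') (f' : M' ⟶ M'') (g : N ⟶ N') (g' : N' ⟶ N'') :
    kRmap (f ≫ f') (g ≫ g') = kRmap f g ≫ kRmap f' g' := by
  refine ModuleCat.hom_ext (LinearMap.ext fun x => Subtype.ext ?_)
  show ((f ≫ f') ⊗ₘ (Om R).map (g ≫ g')).hom (x : _) = _
  rw [Functor.map_comp, ← tensorHom_comp_tensorHom]; rfl

theorem kLmap_id (M N : Md R) : kLmap (𝟙 M) (𝟙 N) = 𝟙 _ := by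
  refine ModuleCat.hom_ext (LinearMap.ext fun x => Subtype.ext ?_)
  show ((Om R).map (𝟙 M) ⊗ₘ 𝟙 N).hom (x : _) = (x : _)
  rw [CategoryTheory.Functor.map_id, id_tensorHom_id]; rfl

theorem kLmap_comp {M M' M'' N N' N'' : Md R} (f : M ⟶ M') (f' : M' ⟶ M'') (g : N ⟶ N') (g' : N' ⟶ N'') :
    kLmap (f ≫ f') (g ≫ g') = kLmap f g ≫ kLmap f' g' := by
  refine ModuleCat.hom_ext (LinearMap.ext fun x => Subtype.ext ?_)
  show ((Om R).map (f ≫ f') ⊗ₘ (g ≫ g')).hom (x : _) = _
  rw [Functor.map_comp, ← tensorHom_comp_tensorHom]; rfl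

variable (R)

/-- The bifunctor `kR`. -/
noncomputable def KR : Md R ⥤ Md R ⥤ Md R where
  obj M :=
    { obj := fun N => ModuleCat.of R (kR R M N)
      map := fun g => kRmap (𝟙 M) g
      map_id := fun N => kRmap_id M N
      map_comp := fun g g' => by rw [← kRmap_comp, Category.comp_id] }
  map {M M'} f :=
    { app := fun N => kRmap f (𝟙 N)
      naturality := fun N N' g => by
        show kRmap (𝟙 M) g ≫ kRmap f (𝟙 N') = kRmap f (𝟙 N) ≫ kRmap (𝟙 M') g
        rw [← kRmap_comp, ← kRmap_comp]; simp }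
  map_id M := NatTrans.ext (funext fun N => kRmap_id M N)
  map_comp f f' := NatTrans.ext (funext fun N => by
    show kRmap _ _ = kRmap _ _ ≫ kRmap _ _
    rw [← kRmap_comp, Category.comp_id])

/-- The bifunctor `kL`. -/
noncomputable def KL : Md R ⥤ Md R ⥤ Md R where
  obj M :=
    { obj := fun N => ModuleCat.of R (kL R M N)
      map := fun g => kLmap (𝟙 M) g
      map_id := fun N => kLmap_id M N
      map_comp := fun g g' => by rw [← kLmap_comp, Category.comp_id] }
  map {M M'} f :=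
    { app := fun N => kLmap f (𝟙 N)
      naturality := fun N N' g => by
        show kLmap (𝟙 M) g ≫ kLmap f (𝟙 N') = kLmap f (𝟙 N) ≫ kLmap (𝟙 M') g
        rw [← kLmap_comp, ← kLmap_comp]; simp }
  map_id M := NatTrans.ext (funext fun N => kLmap_id M N)
  map_comp f f' := NatTrans.ext (funext fun N => by
    show kLmap _ _ = kLmap _ _ ≫ kLmap _ _
    rw [← kLmap_comp, Category.comp_id])

theorem exact_inc_ep_fun (N : Md R) : Function.Exact ((inc R).app N).hom (ep R N).hom :=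
  fun y => ⟨fun h => (ShortComplex.moduleCat_exact_iff _).1 (exact_inc_ep R N) y h, fun ⟨z, hz⟩ => hz ▸ hom_congr R (inc_ep R N) z⟩

theorem surj_ep (N : Md R) : Function.Surjective (ep R N).hom :=
  (ModuleCat.epi_iff_surjective _).1 (epi_ep R N)

theorem inj_inc (N : Md R) : Function.Injective ((inc R).app N).hom :=
  (ModuleCat.mono_iff_injective _).1 (mono_inc R N)

theorem snake (M N : Md R) :
    ∃ δ : kR R M N ≃ₗ[R] kL R M N, ∀ (x : kR R M N) (p : ↑((Fo R).obj M ⊗ (Om R).obj N : Md R))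
      (w : ↑((Om R).obj M ⊗ (Fo R).obj N : Md R)),
      (ep R M ▷ (Om R).obj N).hom p = x → ((Fo R).obj M ◁ (inc R).app N).hom p = ((inc R).app M ▷ (Fo R).obj N).hom w →
      (δ x : ↑((Om R).obj M ⊗ N : Md R)) = ((Om R).obj M ◁ ep R N).hom w := by
  have hx := fun {A B : Md R} (f : A ⟶ B) {C D : Md R} (g : C ⟶ D) (p : ↑(A ⊗ C : Md R)) =>
    show (B ◁ g).hom ((f ▷ C).hom p) = (f ▷ D).hom ((A ◁ g).hom p) from
      ((ModuleCat.comp_apply (A ◁ g) (f ▷ D) p).symm.trans
        ((hom_congr R (whisker_exchange f g) p).trans (ModuleCat.comp_apply _ _ p))).symm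
  exact snake_exists (ep R M ▷ (Om R).obj N).hom ((Fo R).obj M ◁ (inc R).app N).hom
    ((inc R).app M ▷ (Fo R).obj N).hom ((Om R).obj M ◁ ep R N).hom
    (M ◁ (inc R).app N).hom (ep R M ▷ (Fo R).obj N).hom
    ((inc R).app M ▷ N).hom ((Fo R).obj M ◁ ep R N).hom
    (LinearMap.rTensor_surjective _ (surj_ep R M)) (LinearMap.lTensor_surjective _ (surj_ep R N))
    (Module.Flat.lTensor_preserves_injective_linearMap _ (inj_inc R N))
    (Module.Flat.rTensor_preserves_injective_linearMap _ (inj_inc R M))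
    (fun p => (hx (ep R M) ((inc R).app N) p).symm) (fun w => hx ((inc R).app M) (ep R N) w)
    (rTensor_exact _ (exact_inc_ep_fun R M) (surj_ep R M)) (lTensor_exact _ (exact_inc_ep_fun R N) (surj_ep R N))
    ((inc R).app M ▷ (Om R).obj N).hom ((Om R).obj M ◁ (inc R).app N).hom
    (rTensor_exact _ (exact_inc_ep_fun R M) (surj_ep R M)) (lTensor_exact _ (exact_inc_ep_fun R N) (surj_ep R N))
    (fun z => hx ((inc R).app M) ((inc R).app N) z)

/-- The snake isomorphism. -/
noncomputable def δ (M N : Md R) : kR R M N ≃ₗ[R] kL R M N := (snake R M N).choose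

theorem δ_natural {M M' N N' : Md R} (f : M ⟶ M') (g : N ⟶ N') :
    kRmap f g ≫ ModuleCat.ofHom (δ R M' N').toLinearMap = ModuleCat.ofHom (δ R M N).toLinearMap ≫ kLmap f g := by
  refine ModuleCat.hom_ext (LinearMap.ext fun x => Subtype.ext ?_)
  obtain ⟨p, hp⟩ := LinearMap.rTensor_surjective ((Om R).obj N) (surj_ep R M) (x : ↑(M ⊗ (Om R).obj N : Md R))
  have h0 : (ep R M ▷ (Fo R).obj N).hom (((Fo R).obj M ◁ (inc R).app N).hom p) = 0 := by
    rw [← ModuleCat.comp_apply, whisker_exchange, ModuleCat.comp_apply]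
    exact (congrArg (M ◁ (inc R).app N).hom hp).trans x.2
  obtain ⟨w, hw⟩ := (rTensor_exact ((Fo R).obj N) (exact_inc_ep_fun R M) (surj_ep R M) _).1 h0
  have e1 := (snake R M N).choose_spec x p w hp hw.symm
  have e2 := (snake R M' N').choose_spec (kRmap f g x) (((Fo R).map f ⊗ₘ (Om R).map g).hom p)
    (((Om R).map f ⊗ₘ (Fo R).map g).hom w) ?_ ?_
  · refine e2.trans ?_
    show _ = ((Om R).map f ⊗ₘ g).hom (δ R M N x : _)
    rw [show (δ R M N x : ↑((Om R).obj M ⊗ N : Md R)) = _ from e1, ← ModuleCat.comp_apply, ← ModuleCat.comp_apply]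
    have l0 : ((Om R).map f ⊗ₘ (Fo R).map g) ≫ ((Om R).obj M' ◁ ep R N') =
        ((Om R).obj M ◁ ep R N) ≫ ((Om R).map f ⊗ₘ g) := by
      rw [← id_tensorHom, ← id_tensorHom, tensorHom_comp_tensorHom, tensorHom_comp_tensorHom, ep_naturality,
        Category.comp_id, Category.id_comp]
    exact hom_congr R l0 w
  · show _ = (f ⊗ₘ (Om R).map g).hom (x : _)
    rw [← hp]
    show _ = (f ⊗ₘ (Om R).map g).hom ((ep R M ▷ (Om R).obj N).hom p)
    rw [← ModuleCat.comp_apply, ← ModuleCat.comp_apply]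
    have l0 : ((Fo R).map f ⊗ₘ (Om R).map g) ≫ (ep R M' ▷ (Om R).obj N') =
        (ep R M ▷ (Om R).obj N) ≫ (f ⊗ₘ (Om R).map g) := by
      rw [← tensorHom_id, ← tensorHom_id, tensorHom_comp_tensorHom, tensorHom_comp_tensorHom, ep_naturality,
        Category.comp_id, Category.id_comp]
    exact hom_congr R l0 p
  · rw [← ModuleCat.comp_apply, ← ModuleCat.comp_apply]
    have l1 : ((Fo R).map f ⊗ₘ (Om R).map g) ≫ ((Fo R).obj M' ◁ (inc R).app N') =
        ((Fo R).obj M ◁ (inc R).app N) ≫ ((Fo R).map f ⊗ₘ (Fo R).map g) := by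
      rw [← id_tensorHom, ← id_tensorHom, tensorHom_comp_tensorHom, tensorHom_comp_tensorHom, (inc R).naturality,
        Category.comp_id, Category.id_comp]
    have l2 : ((Om R).map f ⊗ₘ (Fo R).map g) ≫ ((inc R).app M' ▷ (Fo R).obj N') =
        ((inc R).app M ▷ (Fo R).obj N) ≫ ((Fo R).map f ⊗ₘ (Fo R).map g) := by
      rw [← tensorHom_id, ← tensorHom_id, tensorHom_comp_tensorHom, tensorHom_comp_tensorHom, (inc R).naturality,
        Category.comp_id, Category.id_comp]
    rw [l1, l2, ModuleCat.comp_apply, ModuleCat.comp_apply]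
    exact congrArg _ hw.symm

/-- The snake isomorphism of bifunctors. -/
noncomputable def KRKL : KR R ≅ KL R :=
  NatIso.ofComponents (fun M => NatIso.ofComponents (fun N => (δ R M N).toModuleIso)
    (fun g => δ_natural R (𝟙 M) g)) (fun f => NatTrans.ext (funext fun N => δ_natural R f (𝟙 N)))

theorem kR_Om_eq_kL_Om (M N : Md R) : kR R ((Om R).obj M) N = kL R M ((Om R).obj N) := by
  ext z
  have key : ((inc R).app M ▷ (Fo R).obj N).hom (((Om R).obj M ◁ (inc R).app N).hom z) =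
      ((Fo R).obj M ◁ (inc R).app N).hom (((inc R).app M ▷ (Om R).obj N).hom z) := by
    rw [← ModuleCat.comp_apply, whisker_exchange, ModuleCat.comp_apply]
  constructor
  · intro h
    have h0 : ((Om R).obj M ◁ (inc R).app N).hom z = 0 := h
    refine Module.Flat.lTensor_preserves_injective_linearMap (M := ((Fo R).obj M)) _ (inj_inc R N) ?_
    show ((Fo R).obj M ◁ (inc R).app N).hom (((inc R).app M ▷ (Om R).obj N).hom z) =
      ((Fo R).obj M ◁ (inc R).app N).hom 0
    rw [← key, h0, map_zero, map_zero]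
  · intro h
    have h0 : ((inc R).app M ▷ (Om R).obj N).hom z = 0 := h
    refine Module.Flat.rTensor_preserves_injective_linearMap (M := ((Fo R).obj N)) _ (inj_inc R M) ?_
    show ((inc R).app M ▷ (Fo R).obj N).hom (((Om R).obj M ◁ (inc R).app N).hom z) =
      ((inc R).app M ▷ (Fo R).obj N).hom 0
    rw [key, h0, map_zero, map_zero]

/-- Both kernels in `ΩM ⊗ ΩN` agree. -/
noncomputable def KROm : Om R ⋙ KR R ≅ KL R ⋙ (Functor.whiskeringLeft _ _ _).obj (Om R) :=
  NatIso.ofComponents (fun M => NatIso.ofComponents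
    (fun N => (LinearEquiv.ofEq _ _ (kR_Om_eq_kL_Om R M N)).toModuleIso)
    (fun {N N'} g => ModuleCat.hom_ext (LinearMap.ext fun (x : kR R ((Om R).obj M) N) => Subtype.ext (by
      show (𝟙 ((Om R).obj M) ⊗ₘ (Om R).map g).hom (x : _) = ((Om R).map (𝟙 M) ⊗ₘ (Om R).map g).hom (x : _)
      rw [CategoryTheory.Functor.map_id]))))
    (fun {M M'} f => NatTrans.ext (funext fun N => ModuleCat.hom_ext (LinearMap.ext fun (x : kR R ((Om R).obj M) N) => Subtype.ext (by
      show ((Om R).map f ⊗ₘ (Om R).map (𝟙 N)).hom (x : _) = ((Om R).map f ⊗ₘ 𝟙 ((Om R).obj N)).hom (x : _)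
      rw [CategoryTheory.Functor.map_id]))))

theorem braiding_mem_kR (M N : Md R) (x : kL R M N) : (β_ ((Om R).obj M) N).hom.hom x ∈ kR R N M := by
  show (N ◁ (inc R).app M).hom ((β_ ((Om R).obj M) N).hom.hom x) = 0
  rw [← ModuleCat.comp_apply, ← BraidedCategory.braiding_naturality_left, ModuleCat.comp_apply,
    show ((inc R).app M ▷ N).hom (x : _) = 0 from x.2, map_zero]

theorem braiding_mem_kL (M N : Md R) (x : kR R N M) : (β_ ((Om R).obj M) N).inv.hom x ∈ kL R M N := by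
  show ((inc R).app M ▷ N).hom ((β_ ((Om R).obj M) N).inv.hom x) = 0
  rw [← ModuleCat.comp_apply, ← BraidedCategory.braiding_inv_naturality_right, ModuleCat.comp_apply,
    show (N ◁ (inc R).app M).hom (x : _) = 0 from x.2, map_zero]

/-- The braiding exchanges the two kernels. -/
noncomputable def kFlipIso (M N : Md R) : ModuleCat.of R (kL R M N) ≅ ModuleCat.of R (kR R N M) where
  hom := ModuleCat.ofHom (((β_ ((Om R).obj M) N).hom.hom.comp (kL R M N).subtype).codRestrict _ (braiding_mem_kR R M N))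
  inv := ModuleCat.ofHom (((β_ ((Om R).obj M) N).inv.hom.comp (kR R N M).subtype).codRestrict _ (braiding_mem_kL R M N))
  hom_inv_id := ModuleCat.hom_ext (LinearMap.ext fun (x : kL R M N) => Subtype.ext
    (show (β_ ((Om R).obj M) N).inv.hom ((β_ ((Om R).obj M) N).hom.hom x.1) = x.1 from
      (β_ ((Om R).obj M) N).hom_inv_id_apply x.1))
  inv_hom_id := ModuleCat.hom_ext (LinearMap.ext fun (x : kR R N M) => Subtype.ext
    (show (β_ ((Om R).obj M) N).hom.hom ((β_ ((Om R).obj M) N).inv.hom x.1) = x.1 from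
      (β_ ((Om R).obj M) N).inv_hom_id_apply x.1))

/-- `KL` is `KR` flipped. -/
noncomputable def KLflip : KL R ≅ (KR R).flip :=
  NatIso.ofComponents (fun M => NatIso.ofComponents (fun N => kFlipIso R M N)
    (fun {N N'} g => ModuleCat.hom_ext (LinearMap.ext fun (x : kL R M N) => Subtype.ext (by
      show (β_ _ N').hom.hom (((Om R).map (𝟙 M) ⊗ₘ g).hom (x : _)) = (g ⊗ₘ (Om R).map (𝟙 M)).hom ((β_ _ N).hom.hom (x : _))
      rw [← ModuleCat.comp_apply, ← ModuleCat.comp_apply, BraidedCategory.braiding_naturality]))))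
    (fun {M M'} f => NatTrans.ext (funext fun N => ModuleCat.hom_ext (LinearMap.ext fun (x : kL R M N) => Subtype.ext (by
      show (β_ _ N).hom.hom (((Om R).map f ⊗ₘ 𝟙 N).hom (x : _)) = (𝟙 N ⊗ₘ (Om R).map f).hom ((β_ _ N).hom.hom (x : _))
      rw [← ModuleCat.comp_apply, ← ModuleCat.comp_apply, BraidedCategory.braiding_naturality]))))

end Groth.Agent.H1TorFlip
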