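import Mathlib.Algebra.Category.ModuleCat.Adjunctions
import Mathlib.Algebra.Category.ModuleCat.EpiMono
import Mathlib.Algebra.Category.ModuleCat.LeftResolution
import Mathlib.Algebra.Category.ModuleCat.Monoidal.Symmetric
import Mathlib.Algebra.Category.ModuleCat.Abelian
import Mathlib.Algebra.Category.ModuleCat.Projective
import Mathlib.CategoryTheory.Monoidal.Tor
import Mathlib.RingTheory.Flat.Basic
import Mathlib.RingTheory.Flat.CategoryTheory
import Mathlib.LinearAlgebra.TensorProduct.RightExactness

/-!
# A functorial free resolution of modules, with degree shifts given by the syzygy functor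
-/

set_option autoImplicit false
universe u

open CategoryTheory Limits MonoidalCategory

namespace Groth.Agent.H1TorFlip

variable (R : Type u) [CommRing R]

/-- The category of modules. -/
abbrev Md := ModuleCat.{u} R

/-- The free module on the elements of a module. -/
noncomputable def Fo : Md R ⥤ Md R := forget (Md R) ⋙ ModuleCat.free R

/-- The canonical surjection from the free module. -/
noncomputable def pr : Fo R ⟶ 𝟭 (Md R) := (ModuleCat.adj R).counit

instance projective_Fo (N : Md R) : Projective ((Fo R).obj N) :=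
  inferInstanceAs (Projective ((ModuleCat.free R).obj _))

instance flat_Fo (N : Md R) : Module.Flat R ((Fo R).obj N) :=
  inferInstanceAs (Module.Flat R (_ →₀ R))

instance epi_pr (N : Md R) : Epi ((pr R).app N) :=
  inferInstanceAs (Epi ((ModuleCat.projectiveResolution R).π.app N))

/-- The canonical surjection, typed componentwise. -/
noncomputable def ep (N : Md R) : (Fo R).obj N ⟶ N := (pr R).app N

instance epi_ep (N : Md R) : Epi (ep R N) := epi_pr R N

@[reassoc]
theorem ep_naturality {N N' : Md R} (f : N ⟶ N') : (Fo R).map f ≫ ep R N' = ep R N ≫ f := (pr R).naturality f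

/-- The functorial syzygy. -/
noncomputable def Om : Md R ⥤ Md R where
  obj N := kernel (ep R N)
  map f := kernel.map _ _ ((Fo R).map f) f (ep_naturality R f).symm
  map_id N := by rw [← cancel_mono (kernel.ι _)]; simp [kernel.map]
  map_comp f g := by rw [← cancel_mono (kernel.ι _)]; simp [kernel.map]

/-- The inclusion of the syzygy. -/
noncomputable def inc : Om R ⟶ Fo R where
  app N := kernel.ι (ep R N)
  naturality N N' f := by simp [Om]

instance mono_inc (N : Md R) : Mono ((inc R).app N) := inferInstanceAs (Mono (kernel.ι _))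

@[reassoc]
theorem inc_ep (N : Md R) : (inc R).app N ≫ ep R N = 0 := kernel.condition _

theorem exact_inc_ep (N : Md R) :
    (ShortComplex.mk ((inc R).app N) (ep R N) (inc_ep R N)).Exact :=
  ShortComplex.exact_of_f_is_kernel _ (kernelIsKernel _)

/-- Iterated syzygies. -/
noncomputable def itOm : ℕ → Md R ⥤ Md R
  | 0 => 𝟭 _
  | n + 1 => Om R ⋙ itOm n

/-- The terms of the resolution. -/
noncomputable def rX (n : ℕ) : Md R ⥤ Md R := itOm R n ⋙ Fo R

/-- The differentials. -/
noncomputable def rd : ∀ n, rX R (n + 1) ⟶ rX R n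
  | 0 =>
    { app := fun N => ep R ((Om R).obj N) ≫ (inc R).app N
      naturality := fun N N' f => by
        show (Fo R).map ((Om R).map f) ≫ ep R _ ≫ (inc R).app N' = (ep R _ ≫ (inc R).app N) ≫ (Fo R).map f
        rw [ep_naturality_assoc, Category.assoc, (inc R).naturality] }
  | n + 1 =>
    { app := fun N => (rd n).app ((Om R).obj N)
      naturality := fun _ _ f => (rd n).naturality ((Om R).map f) }

theorem rd_succ (n : ℕ) (N : Md R) : (rd R (n + 1)).app N = (rd R n).app ((Om R).obj N) := rfl

theorem rd_comp_rd : ∀ (n : ℕ) (N : Md R), (rd R (n + 1)).app N ≫ (rd R n).app N = 0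
  | 0, N => by
    show (ep R _ ≫ (inc R).app ((Om R).obj N)) ≫ ep R ((Om R).obj N) ≫ (inc R).app N = 0
    rw [Category.assoc, ← Category.assoc ((inc R).app ((Om R).obj N)), inc_ep, zero_comp, comp_zero]
  | n + 1, N => rd_comp_rd n ((Om R).obj N)

theorem exact_rd : ∀ (n : ℕ) (N : Md R),
    (ShortComplex.mk ((rd R (n + 1)).app N) ((rd R n).app N) (rd_comp_rd R n N)).Exact
  | 0, N => by
    let S := ShortComplex.mk ((inc R).app ((Om R).obj N)) (ep R ((Om R).obj N) ≫ (inc R).app N)
      (by rw [← Category.assoc, inc_ep, zero_comp])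
    let T := ShortComplex.mk ((inc R).app ((Om R).obj N)) (ep R ((Om R).obj N)) (inc_ep R _)
    have hS : S.Exact := by
      let φ : T ⟶ S := { τ₁ := 𝟙 _, τ₂ := 𝟙 _, τ₃ := (inc R).app N, comm₂₃ := by simp [S, T] }
      haveI : Epi φ.τ₁ := inferInstanceAs (Epi (𝟙 _))
      haveI : IsIso φ.τ₂ := inferInstanceAs (IsIso (𝟙 _))
      haveI : Mono φ.τ₃ := mono_inc R N
      exact (ShortComplex.exact_iff_of_epi_of_isIso_of_mono φ).1 (exact_inc_ep R _)
    let ψ : ShortComplex.mk ((rd R 1).app N) ((rd R 0).app N) (rd_comp_rd R 0 N) ⟶ S :=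
      { τ₁ := ep R _, τ₂ := 𝟙 _, τ₃ := 𝟙 _, comm₁₂ := (Category.comp_id _).symm, comm₂₃ := by simp [S]; rfl }
    haveI : Epi ψ.τ₁ := epi_ep R _
    haveI : IsIso ψ.τ₂ := inferInstanceAs (IsIso (𝟙 _))
    haveI : Mono ψ.τ₃ := inferInstanceAs (Mono (𝟙 _))
    exact (ShortComplex.exact_iff_of_epi_of_isIso_of_mono ψ).2 hS
  | n + 1, N => exact_rd n ((Om R).obj N)

/-- The resolution functor. -/
noncomputable def res : Md R ⥤ ChainComplex (Md R) ℕ where
  obj N := ChainComplex.of (fun n => (rX R n).obj N) (fun n => (rd R n).app N) (fun n => rd_comp_rd R n N)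
  map {N N'} f := ChainComplex.ofHom (fun n => (rX R n).map f) (fun n => by
    show (rX R (n + 1)).map f ≫ ChainComplex.of.d (fun n => (rX R n).obj N') (fun n => (rd R n).app N') (n + 1) n =
      ChainComplex.of.d (fun n => (rX R n).obj N) (fun n => (rd R n).app N) (n + 1) n ≫ (rX R n).map f
    rw [ChainComplex.of_d, ChainComplex.of_d]; exact (rd R n).naturality f)
  map_id N := HomologicalComplex.hom_ext _ _ fun n => (rX R n).map_id N
  map_comp f g := HomologicalComplex.hom_ext _ _ fun n => (rX R n).map_comp f g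

theorem res_d (N : Md R) (n : ℕ) : ((res R).obj N).d (n + 1) n = (rd R n).app N :=
  ChainComplex.of_d (fun n => (rX R n).obj N) (fun n => (rd R n).app N) n

theorem exact_rd_ep (N : Md R) :
    (ShortComplex.mk ((rd R 0).app N) (ep R N)
      (show (ep R ((Om R).obj N) ≫ (inc R).app N) ≫ ep R N = 0 by rw [Category.assoc, inc_ep, comp_zero])).Exact := by
  let ψ : ShortComplex.mk ((rd R 0).app N) (ep R N)
      (show (ep R ((Om R).obj N) ≫ (inc R).app N) ≫ ep R N = 0 by rw [Category.assoc, inc_ep, comp_zero]) ⟶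
      ShortComplex.mk ((inc R).app N) (ep R N) (inc_ep R N) :=
    { τ₁ := ep R ((Om R).obj N), τ₂ := 𝟙 _, τ₃ := 𝟙 _, comm₁₂ := (Category.comp_id _).symm,
      comm₂₃ := (Category.id_comp _).trans (Category.comp_id _).symm }
  haveI : Epi ψ.τ₁ := epi_ep R _
  haveI : IsIso ψ.τ₂ := inferInstanceAs (IsIso (𝟙 _))
  haveI : Mono ψ.τ₃ := inferInstanceAs (Mono (𝟙 _))
  exact (ShortComplex.exact_iff_of_epi_of_isIso_of_mono ψ).2 (exact_inc_ep R N)

/-- The resolution as a projective resolution. -/
noncomputable def projRes (N : Md R) : ProjectiveResolution N where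
  complex := (res R).obj N
  projective n := projective_Fo R _
  π := (ChainComplex.toSingle₀Equiv _ _).symm ⟨ep R N, by
    rw [res_d]; show (ep R ((Om R).obj N) ≫ (inc R).app N) ≫ ep R N = 0; rw [Category.assoc, inc_ep, comp_zero]⟩
  quasiIso := ⟨fun n => by
    cases n
    · rw [ChainComplex.quasiIsoAt₀_iff, ShortComplex.quasiIso_iff_of_zeros']
      · refine (ShortComplex.exact_and_epi_g_iff_of_iso ?_).2 ⟨exact_rd_ep R N, epi_ep R N⟩
        exact ShortComplex.isoMk (Iso.refl _) (Iso.refl _) (Iso.refl _)
          (by simp [res_d]; rfl) (by simp; rfl)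
      all_goals rfl
    · rename_i n
      rw [quasiIsoAt_iff_exactAt']
      · rw [HomologicalComplex.exactAt_iff' _ (n + 2) (n + 1) n (by simp) (by simp)]
        refine ShortComplex.exact_of_iso ?_ (exact_rd R n N)
        exact ShortComplex.isoMk (Iso.refl _) (Iso.refl _) (Iso.refl _)
          (by simp [res_d]; rfl) (by simp [res_d]; rfl)
      · apply ChainComplex.exactAt_succ_single_obj⟩

end Groth.Agent.H1TorFlip
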